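import Groth.Agent.Lib.AlgSpDecent.UnramAt
import Groth.Agent.Lib.AlgSpDecent.ChartOver
import Groth.Agent.Lib.AlgSpDecent.GenericFiniteSp
import Groth.Agent.Lib.AlgSpace.OpenSubExists
import Groth.Prelude.Def_AlgSpGpd
import Mathlib.CategoryTheory.Monoidal.Cartesian.Grp
import Mathlib.CategoryTheory.Monoidal.Cartesian.Over

/-!
# Loci in the base of a group space of conditions on the fibres

A condition at points which is insensitive to base change holds at a point of a group space exactly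
when it holds at the unit over the image of the point, by translation.
-/

set_option autoImplicit false
set_option linter.style.haveILetI false

universe u

open CategoryTheory CategoryTheory.Limits AlgebraicGeometry
open MonoidalCategory CartesianMonoidalCategory MonObj

namespace Groth.Agent.Lib.AlgSpGrpLocus

open AlgSp (Sp yon Representable RepWith IsAlgSpace Points LocP HasAtMor)
open Groth.Agent.Lib.AlgSpace Groth.Agent.Lib.AlgSpMor

variable {S : Scheme.{u}}

/-- A condition at a point of a morphism of schemes. -/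
abbrev Cond := ∀ (U V : Scheme.{u}), (U ⟶ V) → ↥U → Prop

/-- The condition does not change under base change of lft morphisms. -/
def BCStable (S : Scheme.{u}) (q : Cond.{u}) : Prop :=
  ∀ ⦃X Y X' Y' : Sp S⦄ ⦃g : Y' ⟶ Y⦄ ⦃g' : X' ⟶ X⦄ ⦃f : X ⟶ Y⦄ ⦃f' : X' ⟶ Y'⦄,
    IsAlgSpace X → IsAlgSpace Y → IsAlgSpace Y' → IsPullback g' f' f g →
      LocP @LocallyOfFiniteType f → ∀ x' : Points X',
        (HasAtMor q f' x' ↔ HasAtMor q f (Points.map g' x'))

/-- The condition everywhere is the property `P`. -/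
def Everywhere (S : Scheme.{u}) (q : Cond.{u}) (P : MorphismProperty Scheme.{u}) : Prop :=
  ∀ ⦃X Y : Sp S⦄ ⦃f : X ⟶ Y⦄, IsAlgSpace X → IsAlgSpace Y → LocP @LocallyOfFiniteType f →
    (LocP P f ↔ ∀ x : Points X, HasAtMor q f x)

theorem locP_lft_of_isPullback {X Y X' Y' : Sp S} {g : Y' ⟶ Y} {g' : X' ⟶ X} {f : X ⟶ Y}
    {f' : X' ⟶ Y'} (hX : IsAlgSpace X) (hY : IsAlgSpace Y) (hY' : IsAlgSpace Y')
    (sq : IsPullback g' f' f g) (hf : LocP @LocallyOfFiniteType f) :
    LocP @LocallyOfFiniteType f' :=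
  LocP.locP_of_isPullback (LocP.etaleLocalST_of_list (Or.inl rfl)) hX hY hY' sq hf

section

variable {B : Sp S} {G : Over B} [GrpObj G]

/-- Translation of a base change of the group by a point. -/
noncomputable def translate {T : Sp S} (η₀ : T ⟶ B) (z : Over.mk η₀ ⟶ G) :
    pullback G.hom η₀ ⟶ pullback G.hom η₀ :=
  pullback.lift
    (((Over.homMk (pullback.snd G.hom η₀) rfl :
        Over.mk (pullback.snd G.hom η₀ ≫ η₀) ⟶ Over.mk η₀) ≫ z) *
      (Over.homMk (pullback.fst G.hom η₀) pullback.condition :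
        Over.mk (pullback.snd G.hom η₀ ≫ η₀) ⟶ G)).left
    (pullback.snd G.hom η₀) (Over.w _)

theorem translate_snd {T : Sp S} (η₀ : T ⟶ B) (z : Over.mk η₀ ⟶ G) :
    translate η₀ z ≫ pullback.snd G.hom η₀ = pullback.snd G.hom η₀ :=
  pullback.lift_snd _ _ _

theorem comp_translate_fst {T W : Sp S} (η₀ : T ⟶ B) (z : Over.mk η₀ ⟶ G) (w : W ⟶ B)
    (k : Over.mk w ⟶ Over.mk (pullback.snd G.hom η₀ ≫ η₀)) :
    k.left ≫ translate η₀ z ≫ pullback.fst G.hom η₀ =
      ((k ≫ (Over.homMk (pullback.snd G.hom η₀) rfl :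
          Over.mk (pullback.snd G.hom η₀ ≫ η₀) ⟶ Over.mk η₀) ≫ z) *
        (k ≫ (Over.homMk (pullback.fst G.hom η₀) pullback.condition :
          Over.mk (pullback.snd G.hom η₀ ≫ η₀) ⟶ G))).left := by
  rw [← MonObj.comp_mul, Over.comp_left, translate, pullback.lift_fst]

theorem translate_comp {T : Sp S} (η₀ : T ⟶ B) (a b : Over.mk η₀ ⟶ G) :
    translate η₀ a ≫ translate η₀ b = translate η₀ (b * a) := by
  apply pullback.hom_ext
  · let k : Over.mk (pullback.snd G.hom η₀ ≫ η₀) ⟶ Over.mk (pullback.snd G.hom η₀ ≫ η₀) :=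
      Over.homMk (translate η₀ a) (by
        show translate η₀ a ≫ pullback.snd G.hom η₀ ≫ η₀ = _
        rw [← Category.assoc, translate_snd]; rfl)
    have h := comp_translate_fst η₀ b _ k
    rw [Category.assoc]
    refine h.trans ?_
    have hp : k ≫ (Over.homMk (pullback.snd G.hom η₀) rfl :
        Over.mk (pullback.snd G.hom η₀ ≫ η₀) ⟶ Over.mk η₀) = Over.homMk (pullback.snd G.hom η₀) rfl :=
      Over.OverMorphism.ext (translate_snd η₀ a)
    have hg : k ≫ (Over.homMk (pullback.fst G.hom η₀) pullback.condition :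
        Over.mk (pullback.snd G.hom η₀ ≫ η₀) ⟶ G) =
        ((Over.homMk (pullback.snd G.hom η₀) rfl :
          Over.mk (pullback.snd G.hom η₀ ≫ η₀) ⟶ Over.mk η₀) ≫ a) *
          (Over.homMk (pullback.fst G.hom η₀) pullback.condition :
            Over.mk (pullback.snd G.hom η₀ ≫ η₀) ⟶ G) :=
      Over.OverMorphism.ext (pullback.lift_fst _ _ _)
    rw [← Category.assoc, hp, hg, ← _root_.mul_assoc, ← MonObj.comp_mul]
    exact (pullback.lift_fst _ _ _).symm
  · rw [Category.assoc, translate_snd, translate_snd, translate_snd]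

theorem translate_one {T : Sp S} (η₀ : T ⟶ B) :
    translate (G := G) η₀ 1 = 𝟙 _ := by
  apply pullback.hom_ext
  · rw [translate, pullback.lift_fst, MonObj.comp_one, _root_.one_mul, Category.id_comp]
    rfl
  · rw [translate_snd, Category.id_comp]

/-- A base change stable condition holds at a point iff it holds at the unit below it. -/
theorem at_iff_unit {q : Cond.{u}} (hbc : BCStable S q) (hB : IsAlgSpace B) (hG : IsAlgSpace G.left)
    (hlft : LocP @LocallyOfFiniteType G.hom) (x : Points G.left) :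
    HasAtMor q G.hom x ↔
      HasAtMor q G.hom (Points.map (η[G]).left (Points.map G.hom x)) := by
  obtain ⟨T, ξ, t, rfl⟩ := exists_ofPt_eq x
  let η₀ : (yon S).obj T ⟶ B := ξ ≫ G.hom
  let z : Over.mk η₀ ⟶ G := Over.homMk ξ rfl
  have sq := IsPullback.of_hasPullback G.hom η₀
  have hP := isAlgSpace_of_isPullback sq hB.diag hG (IsAlgSpace.yon_obj T)
  let τ := translate η₀ z
  haveI : IsIso τ := ⟨translate η₀ z⁻¹, by rw [translate_comp, inv_mul_cancel, translate_one],
    by rw [translate_comp, mul_inv_cancel, translate_one]⟩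
  have sqτ : IsPullback τ (pullback.snd G.hom η₀) (pullback.snd G.hom η₀) (𝟙 _) :=
    IsPullback.of_horiz_isIso ⟨by rw [translate_snd, Category.comp_id]⟩
  have hsnd := locP_lft_of_isPullback hG hB (IsAlgSpace.yon_obj T) sq hlft
  let one : Over.mk η₀ ⟶ G := 1
  let e' : (yon S).obj T ⟶ pullback G.hom η₀ := pullback.lift one.left (𝟙 ((yon S).obj T))
    ((Over.w one).trans (Category.id_comp _).symm)
  let k : Over.mk η₀ ⟶ Over.mk (pullback.snd G.hom η₀ ≫ η₀) := Over.homMk e' (by
    show e' ≫ pullback.snd G.hom η₀ ≫ η₀ = η₀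
    rw [pullback.lift_snd_assoc]; exact Category.id_comp _)
  have hτ : e' ≫ τ ≫ pullback.fst G.hom η₀ = ξ := by
    refine (comp_translate_fst η₀ z _ k).trans ?_
    have hp : k ≫ (Over.homMk (pullback.snd G.hom η₀) rfl :
        Over.mk (pullback.snd G.hom η₀ ≫ η₀) ⟶ Over.mk η₀) = 𝟙 _ :=
      Over.OverMorphism.ext (pullback.lift_snd _ _ _)
    have hg : k ≫ (Over.homMk (pullback.fst G.hom η₀) pullback.condition :
        Over.mk (pullback.snd G.hom η₀ ≫ η₀) ⟶ G) = 1 :=
      Over.OverMorphism.ext (pullback.lift_fst _ _ _)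
    rw [← Category.assoc, hp, hg, Category.id_comp, _root_.mul_one]
    rfl
  have h1 : Points.map (pullback.fst G.hom η₀) (Points.map τ (Points.ofPt e' t)) =
      Points.ofPt ξ t := by
    rw [← Points.map_comp, Points.map_ofPt, hτ]
  have h2 : Points.map (pullback.fst G.hom η₀) (Points.ofPt e' t) =
      Points.map (η[G]).left (Points.map G.hom (Points.ofPt ξ t)) := by
    rw [Points.map_ofPt, Points.map_ofPt, Points.map_ofPt, pullback.lift_fst]
    congr 1
  rw [← h1, ← hbc hG hB (IsAlgSpace.yon_obj T) sq hlft,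
    ← hbc hP (IsAlgSpace.yon_obj T) (IsAlgSpace.yon_obj T) sqτ hsnd,
    hbc hG hB (IsAlgSpace.yon_obj T) sq hlft, h1, h2]

/-- The property after base change is read off the units. -/
theorem locP_iff_units {q : Cond.{u}} {P : MorphismProperty Scheme.{u}} (hbc : BCStable S q)
    (hall : Everywhere S q P) (hB : IsAlgSpace B) (hG : IsAlgSpace G.left)
    (hlft : LocP @LocallyOfFiniteType G.hom) {B' X' : Sp S} (hB' : IsAlgSpace B') {g : B' ⟶ B}
    {g' : X' ⟶ G.left} {f' : X' ⟶ B'} (sq : IsPullback g' f' G.hom g) :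
    LocP P f' ↔
      ∀ b' : Points B', HasAtMor q G.hom (Points.map (η[G]).left (Points.map g b')) := by
  rw [hall (isAlgSpace_of_isPullback sq hB.diag hG hB') hB'
    (locP_lft_of_isPullback hG hB hB' sq hlft)]
  constructor
  · intro h b'
    obtain ⟨x', hx', -⟩ := exists_of_isPullback sq (Points.map (η[G]).left (Points.map g b')) b' (by
      rw [← Points.map_comp, show (η[G]).left ≫ G.hom = 𝟙 B from Over.w η[G]]
      exact Points.map_id _)
    rw [← hx']
    exact (hbc hG hB hB' sq hlft x').1 (h x')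
  · intro h x'
    rw [hbc hG hB hB' sq hlft x', at_iff_unit hbc hB hG hlft,
      show Points.map G.hom (Points.map g' x') = Points.map g (Points.map f' x') by
        rw [← Points.map_comp, sq.w, Points.map_comp]]
    exact h _

/-- The largest open of the base over which the property holds. -/
theorem exists_largest_open {q : Cond.{u}} {P : MorphismProperty Scheme.{u}} (hbc : BCStable S q)
    (hall : Everywhere S q P)
    (hopen : ∀ {X Y : Sp S} (f : X ⟶ Y), IsAlgSpace X → IsAlgSpace Y →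
      IsOpen {x : Points X | HasAtMor q f x})
    (hB : IsAlgSpace B) (hG : IsAlgSpace G.left) (hlft : LocP @LocallyOfFiniteType G.hom) :
    ∃ (W : Sp S) (w : W ⟶ B), RepWith @IsOpenImmersion w ∧
      (∀ (W' : Sp S) (w' : W' ⟶ B), RepWith @IsOpenImmersion w' →
        (LocP P (pullback.snd G.hom w') ↔ ∃ k : W' ⟶ W, k ≫ w = w')) ∧
      (∀ (B' : Sp S), IsAlgSpace B' → ∀ (f : B' ⟶ B) (W'' : Sp S) (w'' : W'' ⟶ B'),
        RepWith @IsOpenImmersion w'' →
        (LocP P (pullback.snd (pullback.snd G.hom f) w'') ↔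
          ∃ k : W'' ⟶ pullback w f, k ≫ pullback.snd w f = w'')) := by
  obtain ⟨W, w, -, hw, hr⟩ := exists_open_subspace hB
    (W := Points.map (η[G]).left ⁻¹' {x | HasAtMor q G.hom x})
    ((hopen G.hom hG hB).preimage (Points.continuous_map _))
  have key : ∀ {B' X' : Sp S} (_ : IsAlgSpace B') {g : B' ⟶ B} {g' : X' ⟶ G.left} {f' : X' ⟶ B'}
      (_ : IsPullback g' f' G.hom g), LocP P f' ↔ ∃ k : B' ⟶ W, k ≫ w = g := by
    intro B' X' hB' g g' f' sq
    rw [locP_iff_units hbc hall hB hG hlft hB' sq, exists_lift_iff_range_subset hw, hr]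
    exact ⟨fun h ↦ by rintro _ ⟨b', rfl⟩; exact h b', fun h b' ↦ h ⟨b', rfl⟩⟩
  refine ⟨W, w, hw, fun W' w' hw' ↦ key (isAlgSpace_of_representable hw'.rep hB)
    (IsPullback.of_hasPullback _ _), fun B' hB' f W'' w'' hw'' ↦ ?_⟩
  rw [key (isAlgSpace_of_representable hw''.rep hB')
    ((IsPullback.of_hasPullback (pullback.snd G.hom f) w'').paste_horiz
      (IsPullback.of_hasPullback G.hom f))]
  exact ⟨fun ⟨k, hk⟩ ↦ ⟨pullback.lift k w'' hk, pullback.lift_snd _ _ _⟩,
    fun ⟨k, hk⟩ ↦ ⟨k ≫ pullback.fst w f, by rw [Category.assoc, pullback.condition, reassoc_of% hk]⟩⟩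

end

/-! ### The two conditions -/

open Groth.Agent.Lib.AlgSpDecent

theorem bcStable_unr : BCStable S fun _ _ h u ↦ UnramAt.UnrAt h u :=
  fun _ _ _ _ _ _ _ _ hX hY hY' sq hf x' ↦ UnramAt.unrAt_of_isPullback hX hY hY' sq hf x'

theorem bcStable_qf : BCStable S FiniteNhd.QfAt :=
  fun _ _ _ _ _ _ _ _ hX hY hY' sq hf x' ↦ by
    rw [RelDim.qfAt_iff_fibreDim (isAlgSpace_of_isPullback sq hY.diag hX hY') hY'
        (locP_lft_of_isPullback hX hY hY' sq hf),
      RelDim.qfAt_iff_fibreDim hX hY hf]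
    exact RelDim.fibreDim_of_isPullback hX hY hY' sq hf x' (· = 0)

theorem everywhere_unr :
    Everywhere S (fun _ _ h u ↦ UnramAt.UnrAt h u)
      ((@LocallyOfFiniteType : MorphismProperty Scheme.{u}) ⊓ @FormallyUnramified) := by
  intro X Y f hX hY hf
  constructor
  · intro h x
    obtain ⟨U, V, a, b, k, u, ha, hb, w, rfl⟩ := RelDim.exists_chart_at hX hY f x
    haveI : LocallyOfFiniteType k.left := (h a b k ha hb w).1
    haveI : FormallyUnramified k.left := (h a b k ha hb w).2
    exact ⟨U, V, a, b, k, u, ha, hb, w, rfl, ⊤, trivial, inferInstance,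
      MorphismProperty.comp_mem _ _ _ inferInstance ‹_›⟩
  · intro h U V a b k ha hb w
    haveI : LocallyOfFiniteType k.left := hf a b k ha hb w
    choose O hO h1 h2 using fun u ↦ (UnramAt.unrAt_iff_chart hX hY ha hb w u).1 (h _)
    exact ⟨inferInstance, (IsZariskiLocalAtSource.iff_of_iSup_eq_top (P := @FormallyUnramified) O
      (top_le_iff.1 fun z _ ↦ TopologicalSpace.Opens.mem_iSup.2 ⟨z, hO z⟩)).2 h2⟩

theorem everywhere_qf :
    Everywhere S FiniteNhd.QfAt
      ((@LocallyQuasiFinite : MorphismProperty Scheme.{u}) ⊓ @LocallyOfFiniteType) := by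
  intro X Y f hX hY hf
  constructor
  · intro h x
    obtain ⟨U, V, a, b, k, u, ha, hb, w, rfl⟩ := RelDim.exists_chart_at hX hY f x
    haveI : LocallyQuasiFinite k.left := (h a b k ha hb w).1
    haveI : LocallyOfFiniteType k.left := (h a b k ha hb w).2
    exact ⟨U, V, a, b, k, u, ha, hb, w, rfl, ⊤, trivial, inferInstance, inferInstance⟩
  · intro h U V a b k ha hb w
    haveI : LocallyOfFiniteType k.left := hf a b k ha hb w
    exact ⟨GenericFiniteSp.locallyQuasiFinite_of_nhds k.left fun u ↦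
      GenericFiniteSp.exists_lqf_nhd hX hY ha hb w u (h _), inferInstance⟩

end Groth.Agent.Lib.AlgSpGrpLocus
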