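import Groth.Agent.Lib.AlgSpGrpLocus.Basic
import Groth.Agent.Lib.AlgSpDecent.RelDim
import Groth.Agent.Lib.AlgSpDecent.FibreDimPts
import Groth.Agent.Lib.FibreDim.Basic

/-!
# The dimension of a group space over a point is the same at all its points
-/

set_option autoImplicit false

universe u

open CategoryTheory CategoryTheory.Limits AlgebraicGeometry
open MonObj

namespace Groth.Agent.Lib.AlgSpGrpLocus

open AlgSp (Sp yon RepWith IsAlgSpace Points LocP HasAtMor)
open Groth.Agent.Lib.AlgSpace Groth.Agent.Lib.AlgSpMor Groth.Agent.Lib.AlgSpDecent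

variable {S : Scheme.{u}}

theorem bcStable_fibreDim (P : WithBot ℕ∞ → Prop) :
    BCStable S fun _ _ h u ↦ P (FlatMor.fibreDimAt h u) :=
  fun _ _ _ _ _ _ _ _ hX hY hY' sq hf x' ↦ RelDim.fibreDim_of_isPullback hX hY hY' sq hf x' P

/-- All local dimensions of all charts of a group space over a one-point scheme agree. -/
theorem exists_forall_localDim_eq {K : Over S} [Subsingleton ↥K.left] [Nonempty ↥K.left]
    (G : Over ((yon S).obj K)) [GrpObj G] (hG : IsAlgSpace G.left)
    (hlft : LocP @LocallyOfFiniteType G.hom) :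
    ∃ d : WithBot ℕ∞, ∀ (U : Over S) (a : (yon S).obj U ⟶ G.left), RepWith @Etale a →
      ∀ u : ↥U.left, FlatMor.localDim ↥U.left u = d := by
  have hB := IsAlgSpace.yon_obj K
  haveI : Subsingleton (Points ((yon S).obj K)) := (Points.schemeHomeo K).symm.toEquiv.subsingleton
  obtain ⟨t⟩ := ‹Nonempty ↥K.left›
  let e := Points.map (η[G]).left (Points.schemeHomeo K t)
  obtain ⟨U₀, V₀, a₀, b₀, h₀, u₀, ha₀, hb₀, w₀, he⟩ := RelDim.exists_chart_at hG hB G.hom e
  refine ⟨FlatMor.fibreDimAt h₀.left u₀, fun U a ha u => ?_⟩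
  obtain ⟨h, hh⟩ := (yon S).map_surjective (a ≫ G.hom)
  have hid : RepWith @Etale (𝟙 ((yon S).obj K)) := by
    rw [← CategoryTheory.Functor.map_id]
    exact (AlgSp.repWith_yon_map_iff _ _).2 (inferInstanceAs (Etale (𝟙 K.left)))
  let P : WithBot ℕ∞ → Prop := (· = FlatMor.fibreDimAt h₀.left u₀)
  have key := at_iff_unit (bcStable_fibreDim P) hB hG hlft (Points.ofPt a u)
  rw [show Points.map G.hom (Points.ofPt a u) = Points.schemeHomeo K t from Subsingleton.elim _ _] at key
  have hu := (RelDim.hasAtMor_fibreDim_pred hG hB hlft P ha hid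
    (by rw [Category.comp_id, hh]) u).1 (key.2 (show HasAtMor _ G.hom e from
      ⟨U₀, V₀, a₀, b₀, h₀, u₀, ha₀, hb₀, w₀, he, rfl⟩))
  exact (FibreDimPts.fibreDimAt_eq_localDim h.left u).symm.trans hu

/-- The local dimension at every point of a group space over a one-point scheme is its dimension. -/
theorem localDim_eq_dim {K : Over S} [Subsingleton ↥K.left] [Nonempty ↥K.left]
    (G : Over ((yon S).obj K)) [GrpObj G] (hG : IsAlgSpace G.left)
    (hlft : LocP @LocallyOfFiniteType G.hom) (U : Over S) (a : (yon S).obj U ⟶ G.left)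
    (ha : RepWith @Etale a) (u : ↥U.left) :
    FlatMor.localDim ↥U.left u = AlgSp.dim G.left := by
  obtain ⟨d, hd⟩ := exists_forall_localDim_eq G hG hlft
  rw [hd U a ha u]
  refine le_antisymm ?_ ?_
  · exact (hd U a ha u).ge.trans ((FibreDim.Basic.localDim_le_topologicalKrullDim u).trans
      (le_iSup_of_le U (le_iSup_of_le a (le_iSup_of_le ha le_rfl))))
  · exact iSup_le fun V => iSup_le fun b => iSup_le fun hb =>
      FibreDim.Basic.topologicalKrullDim_le_of_forall fun v => (hd V b hb v).le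

end Groth.Agent.Lib.AlgSpGrpLocus
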