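import Groth.Agent.Lib.AlgSpGrpLocus.Dim

/-!
# Translation in groupoids in algebraic spaces

A base change stable condition on the fibres of a map out of the arrows which is compatible with
right multiplication holds at an arrow exactly when it holds at the identity of its target.
-/

set_option autoImplicit false

universe u

open CategoryTheory CategoryTheory.Limits AlgebraicGeometry

namespace Groth.Agent.Lib.AlgSpGrpLocus.Gpd

open AlgSp (Sp yon RepWith IsAlgSpace Points LocP HasAtMor GroupoidSp)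
open Groth.Agent.Lib.AlgSpace Groth.Agent.Lib.AlgSpMor

variable {S : Scheme.{u}} {B : Sp S} (G : GroupoidSp B)

/-- Composition of arrows parametrised by `T`. -/
noncomputable def rmul {T : Sp S} (g x : T ⟶ G.R) (h : g ≫ G.s = x ≫ G.t) : T ⟶ G.R :=
  pullback.lift g x h ≫ G.c

theorem comp_rmul {T T' : Sp S} (a : T' ⟶ T) (g x : T ⟶ G.R) (h : g ≫ G.s = x ≫ G.t) :
    a ≫ rmul G g x h = rmul G (a ≫ g) (a ≫ x) (by rw [Category.assoc, Category.assoc, h]) := by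
  rw [rmul, rmul, ← Category.assoc]
  congr 1
  apply pullback.hom_ext
  · rw [Category.assoc]
    exact (congrArg (a ≫ ·) (pullback.lift_fst _ _ _)).trans (pullback.lift_fst _ _ _).symm
  · rw [Category.assoc]
    exact (congrArg (a ≫ ·) (pullback.lift_snd _ _ _)).trans (pullback.lift_snd _ _ _).symm

theorem rmul_congr {T : Sp S} {g g' x x' : T ⟶ G.R} (hg : g = g') (hx : x = x')
    (h : g ≫ G.s = x ≫ G.t) :
    rmul G g x h = rmul G g' x' (by rw [← hg, ← hx, h]) := by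
  subst hg hx; rfl

theorem rmul_assoc {T : Sp S} (g x y : T ⟶ G.R) (h₁ : g ≫ G.s = x ≫ G.t)
    (h₂ : x ≫ G.s = y ≫ G.t) :
    rmul G (rmul G g x h₁) y ((G.comp_s g x h₁).trans h₂) =
      rmul G g (rmul G x y h₂) (h₁.trans (G.comp_t x y h₂).symm) :=
  G.assoc g x y h₁ h₂

theorem rmul_inv_cancel {T : Sp S} (g x : T ⟶ G.R) (h : g ≫ G.s = x ≫ G.t) :
    rmul G (rmul G g x h) (x ≫ G.i)
      ((G.comp_s g x h).trans (by rw [Category.assoc, G.i_t])) = g := by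
  refine (rmul_assoc G g x (x ≫ G.i) h (by rw [Category.assoc, G.i_t])).trans ?_
  refine (rmul_congr G rfl ?_ _).trans (G.comp_e g)
  refine (G.comp_i x).trans ?_
  rw [← Category.assoc, ← h, Category.assoc]

theorem inv_rmul_cancel {T : Sp S} (g x : T ⟶ G.R) (h : g ≫ G.s = x ≫ G.s) :
    rmul G (rmul G g (x ≫ G.i) (by rw [Category.assoc, G.i_t, h])) x
      ((G.comp_s g (x ≫ G.i) _).trans (by rw [Category.assoc, G.i_s])) = g := by
  refine (rmul_assoc G g (x ≫ G.i) x _ (by rw [Category.assoc, G.i_s])).trans ?_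
  refine (rmul_congr G rfl ?_ _).trans (G.comp_e g)
  refine (G.i_comp x).trans ?_
  rw [← Category.assoc, ← h, Category.assoc]

variable {Z : Sp S} (f : G.R ⟶ Z)

/-- A map out of the arrows through which the source factors and which is compatible with right
multiplication. -/
structure RightInvariant : Prop where
  source : ∀ {W : Sp S} (g g' : W ⟶ G.R), g ≫ f = g' ≫ f → g ≫ G.s = g' ≫ G.s
  mul : ∀ {W : Sp S} (g g' x : W ⟶ G.R) (h : g ≫ G.s = x ≫ G.t) (h' : g' ≫ G.s = x ≫ G.t),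
    g ≫ f = g' ≫ f → rmul G g x h ≫ f = rmul G g' x h' ≫ f

variable {G f}

/-- A base change stable condition on the fibres of a right invariant map holds at an arrow iff it
holds at the identity of its target. -/
theorem at_iff_unit {q : Cond.{u}} (hbc : BCStable S q) (hf : RightInvariant G f)
    (hR : IsAlgSpace G.R) (hZ : IsAlgSpace Z) (hlft : LocP @LocallyOfFiniteType f)
    (x : Points G.R) :
    HasAtMor q f x ↔ HasAtMor q f (Points.map G.e (Points.map G.t x)) := by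
  obtain ⟨T, ξ, t, rfl⟩ := exists_ofPt_eq x
  let r₀ : (yon S).obj T ⟶ G.R := ξ ≫ G.t ≫ G.e
  have hr₀ : r₀ ≫ G.s = ξ ≫ G.t := by
    simp only [r₀, Category.assoc, G.e_s, Category.comp_id]
  let P₀ := pullback f (r₀ ≫ f)
  let P₁ := pullback f (ξ ≫ f)
  let g₀ : P₀ ⟶ G.R := pullback.fst f (r₀ ≫ f)
  let p₀ : P₀ ⟶ (yon S).obj T := pullback.snd f (r₀ ≫ f)
  let g₁ : P₁ ⟶ G.R := pullback.fst f (ξ ≫ f)
  let p₁ : P₁ ⟶ (yon S).obj T := pullback.snd f (ξ ≫ f)
  have c₀ : g₀ ≫ f = (p₀ ≫ r₀) ≫ f := pullback.condition.trans (Category.assoc _ _ _).symm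
  have c₁ : g₁ ≫ f = (p₁ ≫ ξ) ≫ f := pullback.condition.trans (Category.assoc _ _ _).symm
  have h₀ : g₀ ≫ G.s = (p₀ ≫ ξ) ≫ G.t := by
    rw [hf.source _ _ c₀, Category.assoc, hr₀, Category.assoc]
  have h₁ : g₁ ≫ G.s = (p₁ ≫ ξ) ≫ G.s := hf.source _ _ c₁
  have h₁' : g₁ ≫ G.s = ((p₁ ≫ ξ) ≫ G.i) ≫ G.t := by
    rw [Category.assoc (p₁ ≫ ξ), G.i_t, h₁]
  have e₀ : ∀ {W : Sp S} (a : W ⟶ (yon S).obj T) (h : (a ≫ r₀) ≫ G.s = (a ≫ ξ) ≫ G.t),
      rmul G (a ≫ r₀) (a ≫ ξ) h = a ≫ ξ := fun a h => by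
    refine (rmul_congr G ?_ rfl h).trans (G.e_comp (a ≫ ξ))
    simp only [r₀, Category.assoc]
  let τ : P₀ ⟶ P₁ := pullback.lift (rmul G g₀ (p₀ ≫ ξ) h₀) p₀ (by
    rw [hf.mul _ _ _ h₀ (by simp only [Category.assoc, hr₀]) c₀, e₀, Category.assoc])
  let τ' : P₁ ⟶ P₀ := pullback.lift (rmul G g₁ ((p₁ ≫ ξ) ≫ G.i) h₁') p₁ (by
    rw [hf.mul _ _ _ h₁' (by rw [Category.assoc (p₁ ≫ ξ), G.i_t]) c₁]
    refine (congrArg (· ≫ f) (G.comp_i (p₁ ≫ ξ))).trans ?_
    simp only [r₀, Category.assoc])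
  have τg : τ ≫ g₁ = rmul G g₀ (p₀ ≫ ξ) h₀ := pullback.lift_fst _ _ _
  have τp : τ ≫ p₁ = p₀ := pullback.lift_snd _ _ _
  have τ'g : τ' ≫ g₀ = rmul G g₁ ((p₁ ≫ ξ) ≫ G.i) h₁' := pullback.lift_fst _ _ _
  have τ'p : τ' ≫ p₀ = p₁ := pullback.lift_snd _ _ _
  haveI : IsIso τ := by
    refine ⟨τ', pullback.hom_ext ?_ ?_, pullback.hom_ext ?_ ?_⟩
    · rw [Category.assoc, Category.id_comp]
      refine (congrArg (τ ≫ ·) τ'g).trans ((comp_rmul G τ _ _ _).trans ?_)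
      refine (rmul_congr G τg ?_ _).trans (rmul_inv_cancel G g₀ (p₀ ≫ ξ) h₀)
      rw [← Category.assoc, ← Category.assoc, τp]
    · rw [Category.assoc, Category.id_comp]
      exact (congrArg (τ ≫ ·) τ'p).trans τp
    · rw [Category.assoc, Category.id_comp]
      refine (congrArg (τ' ≫ ·) τg).trans ((comp_rmul G τ' _ _ _).trans ?_)
      refine (rmul_congr G τ'g ?_ _).trans (inv_rmul_cancel G g₁ (p₁ ≫ ξ) h₁)
      rw [← Category.assoc, τ'p]
    · rw [Category.assoc, Category.id_comp]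
      exact (congrArg (τ' ≫ ·) τp).trans τ'p
  have sq₀ := IsPullback.of_hasPullback f (r₀ ≫ f)
  have sqτ : IsPullback τ p₀ p₁ (𝟙 ((yon S).obj T)) :=
    IsPullback.of_horiz_isIso ⟨by rw [τp, Category.comp_id]⟩
  have sq₁ : IsPullback (τ ≫ g₁) p₀ f (𝟙 ((yon S).obj T) ≫ ξ ≫ f) :=
    sqτ.paste_horiz (IsPullback.of_hasPullback f (ξ ≫ f))
  let e' : (yon S).obj T ⟶ P₀ := pullback.lift r₀ (𝟙 _) (Category.id_comp _).symm
  have he : e' ≫ τ ≫ g₁ = ξ := by
    rw [τg]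
    refine (comp_rmul G e' _ _ _).trans ?_
    refine (rmul_congr G (g' := 𝟙 _ ≫ r₀) (x' := 𝟙 _ ≫ ξ) ?_ ?_ _).trans
      ((e₀ (𝟙 _) _).trans (Category.id_comp ξ))
    · exact (pullback.lift_fst _ _ _).trans (Category.id_comp _).symm
    · rw [← Category.assoc]
      exact congrArg (· ≫ ξ) (pullback.lift_snd _ _ _)
  have k₁ : Points.map (τ ≫ g₁) (Points.ofPt e' t) = Points.ofPt ξ t := by
    rw [Points.map_ofPt, he]
  have k₀ : Points.map g₀ (Points.ofPt e' t) = Points.map G.e (Points.map G.t (Points.ofPt ξ t)) := by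
    rw [Points.map_ofPt, Points.map_ofPt, Points.map_ofPt]
    congr 1
    exact (pullback.lift_fst _ _ _).trans (Category.assoc _ _ _).symm
  rw [← k₁, ← hbc hR hZ (IsAlgSpace.yon_obj T) sq₁ hlft,
    hbc hR hZ (IsAlgSpace.yon_obj T) sq₀ hlft, k₁]
  exact iff_of_eq (congrArg _ k₀)

end Groth.Agent.Lib.AlgSpGrpLocus.Gpd
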