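import Groth.Agent.H63.GrpdTwoFields
import Groth.Agent.H63.SchemeEpi
import Groth.Agent.Lib.PointDim.Basic
import Groth.Agent.Lib.Cyc.Residue
import Mathlib.FieldTheory.IntermediateField.Adjoin.Basic
import Mathlib.CategoryTheory.Limits.Constructions.Over.Products
import Mathlib.AlgebraicGeometry.Pullbacks

/-!
# Points of the product of a field with itself under a scheme of finite type over one factor

If a scheme `V` maps to `Spec k ×_S Spec k` and is locally of finite type over the second factor,
then the images of its points have residue fields algebraic over the second factor.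
-/

set_option autoImplicit false

universe u

open CategoryTheory CategoryTheory.Limits AlgebraicGeometry

namespace Groth.Agent.Lib.AlgSpGrpLocus.TwoFields

open Groth.Agent.Lib.Cyc

variable {S : Scheme.{u}} {k : Type u} [Field k] (σ : Spec (CommRingCat.of k) ⟶ S)

/-- The two images of `k` in the residue field of a point: the first is algebraic over the second. -/
theorem isAlgebraic_image {X : Scheme.{u}} (p q : X ⟶ Spec (CommRingCat.of k))
    [LocallyOfFiniteType q] (r : X) :
    letI := (PointDim.Basic.kToRes q r).hom.toAlgebra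
    ∀ x : k, IsAlgebraic k ((PointDim.Basic.kToRes p r).hom x : X.residueField r) := by
  intro x
  letI alg : Algebra k (X.residueField r) := (PointDim.Basic.kToRes q r).hom.toAlgebra
  let ρ := X.fromSpecResidueField r
  let sσ : CommRingCat.of k ⟶ X.residueField r := PointDim.Basic.kToRes q r
  let tτ : CommRingCat.of k ⟶ X.residueField r := PointDim.Basic.kToRes p r
  have hσ : Spec.map sσ = ρ ≫ q := PointDim.Basic.specMap_kToRes _ _
  have hτ : Spec.map tτ = ρ ≫ p := PointDim.Basic.specMap_kToRes _ _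
  by_cases hx : ∃ n : ℕ, 0 < n ∧ x ^ n = 1
  · obtain ⟨n, hn, hxn⟩ := hx
    refine ⟨(Polynomial.X : Polynomial k) ^ n - Polynomial.C 1,
      Polynomial.X_pow_sub_C_ne_zero hn 1, ?_⟩
    rw [map_sub, map_pow, Polynomial.aeval_X, ← map_pow, hxn]
    simp
  obtain ⟨V, hV, hrV, -⟩ := exists_isAffineOpen_mem_and_subset (x := r) (U := ⊤) trivial
  obtain ⟨σA, hσA⟩ := Spec.map_surjective (hV.fromSpec ≫ q)
  obtain ⟨τA, hτA⟩ := Spec.map_surjective (hV.fromSpec ≫ p)
  have hr : Set.range ρ ⊆ Set.range hV.fromSpec := by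
    rintro _ ⟨z, rfl⟩
    rw [hV.range_fromSpec, Scheme.fromSpecResidueField_apply]
    exact hrV
  obtain ⟨ev, hev⟩ := Spec.map_surjective (IsOpenImmersion.lift hV.fromSpec ρ hr)
  have hev' : Spec.map ev ≫ hV.fromSpec = ρ := by rw [hev]; exact IsOpenImmersion.lift_fac _ _ _
  have h1 : σA ≫ ev = sσ :=
    Spec.map_injective (by rw [Spec.map_comp, hσA, hσ, ← Category.assoc, hev'])
  have h2 : τA ≫ ev = tτ :=
    Spec.map_injective (by rw [Spec.map_comp, hτA, hτ, ← Category.assoc, hev'])
  letI : Algebra k Γ(X, V) := σA.hom.toAlgebra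
  have hft : Algebra.FiniteType k Γ(X, V) := by
    have : LocallyOfFiniteType (Spec.map σA) := by rw [hσA]; infer_instance
    exact (HasRingHomProperty.Spec_iff (P := @LocallyOfFiniteType)).mp this
  let evₐ : Γ(X, V) →ₐ[k] X.residueField r :=
    { ev.hom with commutes' := fun a => congrArg (fun f => f.hom a) h1 }
  let I := RingHom.ker evₐ
  have : I.IsPrime := RingHom.ker_isPrime _
  let emb : (Γ(X, V) ⧸ I) →ₐ[k] X.residueField r := Ideal.kerLiftAlg evₐ
  have hT := H63.GrpdTwoFields.isAlgebraic_of_isUnit_pow_sub_one (k := k)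
    (Ideal.Quotient.mk I (τA.hom x)) fun n hn _ => by
      rw [← map_pow, ← map_pow, ← map_one (Ideal.Quotient.mk I), ← map_one τA.hom, ← map_sub,
        ← map_sub]
      exact ((IsUnit.mk0 _ (sub_ne_zero.2 fun h => hx ⟨n, hn, h⟩)).map τA.hom).map _
  have := hT.algHom emb
  convert this using 1
  exact (congrArg (fun f => f.hom x) h2).symm

/-- Residue fields of images in `Spec k ×_S Spec k` of points of a scheme of finite type over the
second factor are algebraic over the second factor. -/
theorem trdegAt_snd_eq_zero {V : Over S} (m : V ⟶ Over.mk σ ⨯ Over.mk σ)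
    [hlft : LocallyOfFiniteType (m ≫ prod.snd).left] (ξ : ↥V.left) :
    Residue.trdegAt (prod.snd : Over.mk σ ⨯ Over.mk σ ⟶ Over.mk σ).left (m.left ξ) = 0 := by
  let q : V.left ⟶ Spec (CommRingCat.of k) := (m ≫ prod.snd).left
  let p : V.left ⟶ Spec (CommRingCat.of k) := (m ≫ prod.fst).left
  haveI : LocallyOfFiniteType q := hlft
  let ρ := V.left.fromSpecResidueField ξ
  let sσ : CommRingCat.of k ⟶ V.left.residueField ξ := PointDim.Basic.kToRes q ξ
  let tτ : CommRingCat.of k ⟶ V.left.residueField ξ := PointDim.Basic.kToRes p ξ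
  letI alg : Algebra k (V.left.residueField ξ) := sσ.hom.toAlgebra
  have halg : ∀ x : k, IsAlgebraic k (tτ.hom x : V.left.residueField ξ) := isAlgebraic_image p q ξ
  let L0 : IntermediateField k (V.left.residueField ξ) :=
    IntermediateField.adjoin k (Set.range tτ.hom)
  have hL0 : Algebra.IsAlgebraic k L0 :=
    IntermediateField.isAlgebraic_adjoin fun y hy => by
      obtain ⟨x, rfl⟩ := hy
      exact (halg x).isIntegral
  let σ0 : CommRingCat.of k ⟶ CommRingCat.of L0 := CommRingCat.ofHom (algebraMap k L0)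
  let τ0 : CommRingCat.of k ⟶ CommRingCat.of L0 :=
    CommRingCat.ofHom (tτ.hom.codRestrict L0.toSubfield.toSubring
      (fun x => IntermediateField.subset_adjoin k _ ⟨x, rfl⟩))
  let incl : CommRingCat.of L0 ⟶ V.left.residueField ξ :=
    CommRingCat.ofHom (R := L0) (S := ↑(V.left.residueField ξ)) L0.val.toRingHom
  have hσ0 : σ0 ≫ incl = sσ := by ext a; exact L0.val.commutes a
  have hτ0 : τ0 ≫ incl = tτ := by ext a; rfl
  have hq : Spec.map incl ≫ Spec.map σ0 = ρ ≫ q := by
    rw [← Spec.map_comp, hσ0]; exact PointDim.Basic.specMap_kToRes _ _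
  have hp : Spec.map incl ≫ Spec.map τ0 = ρ ≫ p := by
    rw [← Spec.map_comp, hτ0]; exact PointDim.Basic.specMap_kToRes _ _
  have hepi : Epi (Spec.map incl) := by
    have : Surjective (Spec.map incl) :=
      ⟨fun _ => ⟨IsLocalRing.closedPoint _, Subsingleton.elim (α := PrimeSpectrum L0) _ _⟩⟩
    exact H63.SchemeEpi.epi_of_surjective_of_app_injective _
      (H63.SchemeEpi.app_injective_SpecMap incl L0.val.toRingHom.injective)
  have hcond : Spec.map τ0 ≫ σ = Spec.map σ0 ≫ σ := by
    rw [← cancel_epi (Spec.map incl), reassoc_of% hp, reassoc_of% hq]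
    exact congrArg (ρ ≫ ·) ((Over.w (m ≫ prod.fst)).trans (Over.w (m ≫ prod.snd)).symm)
  let W₀ : Over S := Over.mk (Spec.map σ0 ≫ σ)
  let g : W₀ ⟶ Over.mk σ ⨯ Over.mk σ :=
    prod.lift (Over.homMk (Spec.map τ0) hcond) (Over.homMk (Spec.map σ0) rfl)
  let W₁ : Over S := Over.mk (ρ ≫ V.hom)
  let ρ' : W₁ ⟶ V := Over.homMk ρ rfl
  let ι : W₁ ⟶ W₀ := Over.homMk (Spec.map incl) (by
    show Spec.map incl ≫ Spec.map σ0 ≫ σ = ρ ≫ V.hom
    rw [reassoc_of% hq]
    exact congrArg (ρ ≫ ·) (Over.w (m ≫ prod.snd)))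
  have hg : ι ≫ g = ρ' ≫ m := by
    refine prod.hom_ext ?_ ?_
    · rw [Category.assoc, prod.lift_fst, Category.assoc]
      exact Over.OverMorphism.ext hp
    · rw [Category.assoc, prod.lift_snd, Category.assoc]
      exact Over.OverMorphism.ext hq
  have hg' : Spec.map incl ≫ g.left = ρ ≫ m.left := congrArg CommaMorphism.left hg
  let P : Scheme.{u} := (Over.mk σ ⨯ Over.mk σ).left
  let π : P ⟶ Spec (CommRingCat.of k) := (prod.snd : Over.mk σ ⨯ Over.mk σ ⟶ Over.mk σ).left
  let g' : Spec (CommRingCat.of L0) ⟶ P := g.left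
  let y : P := g' (IsLocalRing.closedPoint L0)
  have hy : y = m.left ξ := by
    show g' (IsLocalRing.closedPoint L0) = m.left ξ
    rw [← show Spec.map incl (IsLocalRing.closedPoint _) = IsLocalRing.closedPoint L0 from
        Subsingleton.elim (α := PrimeSpectrum L0) _ _, ← Scheme.Hom.comp_apply]
    erw [hg']
    rw [Scheme.Hom.comp_apply]
    exact congrArg _ (Scheme.fromSpecResidueField_apply ξ _)
  show Residue.trdegAt π (m.left ξ) = 0
  rw [← hy]
  let zv := Scheme.SpecToEquivOfField L0 P g'
  let v : P.residueField y ⟶ CommRingCat.of L0 := zv.2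
  have hv : Spec.map v ≫ P.fromSpecResidueField y = g' :=
    (Scheme.SpecToEquivOfField L0 P).symm_apply_apply g'
  have hkv : PointDim.Basic.kToRes π y ≫ v = σ0 := by
    apply Spec.map_injective
    rw [Spec.map_comp, PointDim.Basic.specMap_kToRes, ← Category.assoc, hv]
    exact congrArg CommaMorphism.left (prod.lift_snd (Over.homMk (U := W₀) (V := Over.mk σ)
      (Spec.map τ0) hcond) (Over.homMk (U := W₀) (V := Over.mk σ) (Spec.map σ0) rfl))
  letI : Algebra k (P.residueField y) := (PointDim.Basic.kToRes π y).hom.toAlgebra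
  let vₐ : P.residueField y →ₐ[k] L0 :=
    { v.hom with commutes' := fun a => congrArg (fun f => f.hom a) hkv }
  have : Algebra.IsAlgebraic k (P.residueField y) :=
    Algebra.IsAlgebraic.of_injective vₐ v.hom.injective
  show Residue.trdegAt π y = 0
  refine (PointDim.Basic.trdeg_residueFieldMap π y).trans ?_
  exact trdeg_eq_zero (R := k)

end Groth.Agent.Lib.AlgSpGrpLocus.TwoFields
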