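import Groth.Agent.Lib.AlgSpGrpLocus.Gpd
import Groth.Agent.Lib.AlgSpGrpLocus.TwoFields
import Groth.Agent.Lib.Flat55.DimSums

/-!
# Dimensions of the arrows and of the stabilizer of a groupoid over a field
-/

set_option autoImplicit false

universe u

open CategoryTheory CategoryTheory.Limits AlgebraicGeometry Topology

namespace Groth.Agent.Lib.AlgSpGrpLocus.GpdDim

open AlgSp (Sp yon RepWith IsAlgSpace Points LocP HasAtMor GroupoidSp)
open Groth.Agent.Lib.AlgSpace Groth.Agent.Lib.AlgSpMor Groth.Agent.Lib.AlgSpDecent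
open Groth.Agent.Lib.VarDim.Basic

variable {S : Scheme.{u}}

/-- The dimension of an algebraic space all of whose chart local dimensions agree. -/
theorem dim_eq_of_forall {X : Sp S} (hX : IsAlgSpace X) [Nonempty (Points X)] {d : WithBot ℕ∞}
    (hd : ∀ (U : Over S) (a : (yon S).obj U ⟶ X), RepWith @Etale a →
      ∀ u : ↥U.left, FlatMor.localDim ↥U.left u = d) : AlgSp.dim X = d := by
  obtain ⟨U, a, ha, has⟩ := hX.atlas
  obtain ⟨u, -⟩ := Core.surjective_ofPt has (Classical.arbitrary (Points X))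
  refine le_antisymm ?_ ?_
  · exact iSup_le fun V => iSup_le fun b => iSup_le fun hb =>
      FibreDim.Basic.topologicalKrullDim_le_of_forall fun v => (hd V b hb v).le
  · exact (hd U a ha u).ge.trans ((FibreDim.Basic.localDim_le_topologicalKrullDim u).trans
      (le_iSup_of_le U (le_iSup_of_le a (le_iSup_of_le ha le_rfl))))

theorem fibreDimAt_le_localDim {X Y : Scheme.{u}} (f : X ⟶ Y) (x : X) :
    FlatMor.fibreDimAt f x ≤ FlatMor.localDim ↥X x := by
  rw [FibreDim.Basic.fibreDimAt_eq]
  exact le_iInf fun V => iInf_le_of_le ⟨⟨Subtype.val ⁻¹' V.1, V.1.2.preimage continuous_subtype_val⟩, V.2⟩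
    ((IsInducing.subtypeVal (t := f.base ⁻¹' {f.base x})).restrictPreimage
      (V.1 : Set ↥X)).topologicalKrullDim_le

variable {B : Sp S} (G : GroupoidSp B) {k : Type u} [Field k]
  (σ : Spec (CommRingCat.of k) ⟶ S) (eU : G.U ≅ (yon S).obj (Over.mk σ))

/-- The source as a map to the point. -/
noncomputable def src : G.R ⟶ (yon S).obj (Over.mk σ) := G.s ≫ eU.hom

/-- The pair of target and source as a map to the product of the point with itself. -/
noncomputable def ts : G.R ⟶ (yon S).obj (Over.mk σ ⨯ Over.mk σ) :=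
  prod.lift (G.t ≫ eU.hom) (G.s ≫ eU.hom) ≫ (yonProdIso _ _).inv

theorem lift_inv_fst {W : Sp S} {U V : Over S} (a : W ⟶ (yon S).obj U) (b : W ⟶ (yon S).obj V) :
    (prod.lift a b ≫ (yonProdIso U V).inv) ≫ (yon S).map prod.fst = a := by
  rw [Category.assoc, show (yonProdIso U V).inv ≫ (yon S).map prod.fst =
    prod.fst from (Iso.inv_comp_eq _).2 (yonProdIso_hom_fst _ _).symm, prod.lift_fst]

theorem lift_inv_snd {W : Sp S} {U V : Over S} (a : W ⟶ (yon S).obj U) (b : W ⟶ (yon S).obj V) :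
    (prod.lift a b ≫ (yonProdIso U V).inv) ≫ (yon S).map prod.snd = b := by
  rw [Category.assoc, show (yonProdIso U V).inv ≫ (yon S).map prod.snd =
    prod.snd from (Iso.inv_comp_eq _).2 (yonProdIso_hom_snd _ _).symm, prod.lift_snd]

theorem ts_fst : ts G σ eU ≫ (yon S).map prod.fst = G.t ≫ eU.hom :=
  lift_inv_fst _ _

theorem ts_snd : ts G σ eU ≫ (yon S).map prod.snd = G.s ≫ eU.hom :=
  lift_inv_snd _ _

theorem yon_prod_ext {W : Sp S} {U V : Over S} {a b : W ⟶ (yon S).obj (U ⨯ V)}
    (h₁ : a ≫ (yon S).map prod.fst = b ≫ (yon S).map prod.fst)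
    (h₂ : a ≫ (yon S).map prod.snd = b ≫ (yon S).map prod.snd) : a = b := by
  rw [← cancel_mono (yonProdIso U V).hom]
  apply prod.hom_ext <;> simpa

theorem rightInvariant_src : Gpd.RightInvariant G (src G σ eU) where
  source g g' h := by
    simpa only [src, ← Category.assoc, cancel_mono] using h
  mul g g' x h h' _ := by
    simp only [src, ← Category.assoc, Gpd.rmul, G.comp_s]

theorem rightInvariant_ts : Gpd.RightInvariant G (ts G σ eU) where
  source g g' h := by
    have := congrArg (· ≫ (yon S).map prod.snd) h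
    simp only [Category.assoc, ts_snd] at this
    rwa [← Category.assoc, ← Category.assoc, cancel_mono] at this
  mul g g' x h h' he := by
    have h1 := congrArg (· ≫ (yon S).map prod.fst) he
    simp only [Category.assoc, ts_fst] at h1
    refine yon_prod_ext ?_ ?_
    · simp only [Category.assoc, ts_fst]
      rw [← Category.assoc (Gpd.rmul G g x h), ← Category.assoc (Gpd.rmul G g' x h'), Gpd.rmul,
        Gpd.rmul, G.comp_t, G.comp_t, Category.assoc, Category.assoc]
      exact h1
    · simp only [Category.assoc, ts_snd]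
      rw [← Category.assoc (Gpd.rmul G g x h), ← Category.assoc (Gpd.rmul G g' x h'), Gpd.rmul,
        Gpd.rmul, G.comp_s, G.comp_s]

variable (hR : IsAlgSpace G.R) (hs : LocP @LocallyOfFiniteType G.s)

include σ eU hR hs

theorem lft_src : LocP @LocallyOfFiniteType (src G σ eU) := by
  have hK := IsAlgSpace.yon_obj (Over.mk σ)
  have hU : IsAlgSpace G.U :=
    isAlgSpace_of_representable (repWith_of_isIso @LocallyOfFiniteType eU.hom).rep hK
  refine LocP.locP_comp (LocP.etaleLocalST_of_list (Or.inl rfl)) hR hU hK hs ?_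
  exact LocP.locP_of_repWith (LocP.etaleLocalST_of_list (Or.inl rfl))
    (repWith_of_isIso @LocallyOfFiniteType eU.hom)

theorem lft_ts : LocP @LocallyOfFiniteType (ts G σ eU) := by
  refine LocP.locP_of_comp (P := @LocallyOfFiniteType) (R := ⊤)
    (g := (yon S).map (prod.snd : Over.mk σ ⨯ Over.mk σ ⟶ _))
    (LocP.etaleLocalST_of_list (Or.inl rfl))
    (fun f g h _ => haveI := h; locallyOfFiniteType_of_comp f g) hR (IsAlgSpace.yon_obj _)
    (IsAlgSpace.yon_obj (Over.mk σ)) ?_ (fun _ _ _ _ _ _ _ _ => trivial)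
  rw [ts_snd]
  exact lft_src G σ eU hR hs

/-- The relative dimension of a right invariant map is the same at all points. -/
theorem exists_fibreDimAt_eq {Z : Over S} (f : G.R ⟶ (yon S).obj Z) (hf : Gpd.RightInvariant G f)
    (hlft : LocP @LocallyOfFiniteType f) :
    ∃ d : WithBot ℕ∞, ∀ (V : Over S) (a : (yon S).obj V ⟶ G.R) (h : V ⟶ Z), RepWith @Etale a →
      a ≫ f = (yon S).map h → ∀ v : ↥V.left, FlatMor.fibreDimAt h.left v = d := by
  have hZ := IsAlgSpace.yon_obj Z
  have hid : RepWith @Etale (𝟙 ((yon S).obj Z)) := by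
    rw [← CategoryTheory.Functor.map_id]
    exact (AlgSp.repWith_yon_map_iff _ _).2 (inferInstanceAs (Etale (𝟙 Z.left)))
  haveI : Subsingleton ↥(Over.mk σ).left := inferInstanceAs (Subsingleton (PrimeSpectrum k))
  haveI : Subsingleton (Points G.U) := ⟨fun x y => by
    have : Function.Injective (Points.map eU.hom) := Function.LeftInverse.injective
      (g := Points.map eU.inv) fun z => by rw [← Points.map_comp, Iso.hom_inv_id, Points.map_id]
    exact this ((Points.schemeHomeo (Over.mk σ)).symm.toEquiv.subsingleton.elim _ _)⟩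
  let o : Points G.R := Points.map G.e (Points.map eU.inv
    (Points.schemeHomeo (Over.mk σ) (IsLocalRing.closedPoint k)))
  obtain ⟨V₀, W₀, a₀, b₀, h₀, u₀, ha₀, hb₀, w₀, ho⟩ := RelDim.exists_chart_at hR hZ f o
  refine ⟨FlatMor.fibreDimAt h₀.left u₀, fun V a h ha hh v => ?_⟩
  let P : WithBot ℕ∞ → Prop := (· = FlatMor.fibreDimAt h₀.left u₀)
  have key := Gpd.at_iff_unit (bcStable_fibreDim P) hf hR hZ hlft (Points.ofPt a v)
  rw [Subsingleton.elim (Points.map G.t (Points.ofPt a v)) (Points.map eU.inv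
    (Points.schemeHomeo (Over.mk σ) (IsLocalRing.closedPoint k)))] at key
  exact (RelDim.hasAtMor_fibreDim_pred hR hZ hlft P ha hid
    (by rw [Category.comp_id, hh]) v).1 (key.2 (show HasAtMor _ f o from
      ⟨V₀, W₀, a₀, b₀, h₀, u₀, ha₀, hb₀, w₀, ho, rfl⟩))

/-- All local dimensions of the arrows are equal to the dimension. -/
theorem localDim_eq_dim (V : Over S) (a : (yon S).obj V ⟶ G.R) (ha : RepWith @Etale a)
    (v : ↥V.left) : FlatMor.localDim ↥V.left v = AlgSp.dim G.R := by
  haveI : Subsingleton ↥(Over.mk σ).left := inferInstanceAs (Subsingleton (PrimeSpectrum k))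
  obtain ⟨d, hd⟩ := exists_fibreDimAt_eq G σ eU hR hs (src G σ eU) (rightInvariant_src G σ eU)
    (lft_src G σ eU hR hs)
  have hd' : ∀ (V : Over S) (a : (yon S).obj V ⟶ G.R), RepWith @Etale a →
      ∀ v : ↥V.left, FlatMor.localDim ↥V.left v = d := fun V a ha v => by
    obtain ⟨h, hh⟩ := (yon S).map_surjective (a ≫ src G σ eU)
    exact (FibreDimPts.fibreDimAt_eq_localDim h.left v).symm.trans (hd V a h ha hh.symm v)
  haveI : Nonempty (Points G.R) := ⟨Points.ofPt a v⟩
  rw [hd' V a ha v, dim_eq_of_forall hR hd']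

/-- The arrows and the stabilizer have the same dimension. -/
theorem dim_eq_dim_stabilizer : AlgSp.dim G.R = AlgSp.dim G.stabilizer := by
  haveI : Subsingleton ↥(Over.mk σ).left := inferInstanceAs (Subsingleton (PrimeSpectrum k))
  have hlft := lft_ts G σ eU hR hs
  have hZ := IsAlgSpace.yon_obj (Over.mk σ ⨯ Over.mk σ)
  have hK := IsAlgSpace.yon_obj (Over.mk σ)
  obtain ⟨d, hd⟩ := exists_fibreDimAt_eq G σ eU hR hs (ts G σ eU) (rightInvariant_ts G σ eU) hlft
  haveI : Nonempty (Points G.R) := ⟨Points.map G.e (Points.map eU.inv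
    (Points.schemeHomeo (Over.mk σ) (IsLocalRing.closedPoint k)))⟩
  obtain ⟨V, a, ha, has⟩ := hR.atlas
  obtain ⟨v, -⟩ := Core.surjective_ofPt has (Classical.arbitrary (Points G.R))
  obtain ⟨m, hm⟩ := (yon S).map_surjective (a ≫ ts G σ eU)
  have hmq : LocallyOfFiniteType (m ≫ prod.snd).left := by
    refine lft_src G σ eU hR hs a (𝟙 _) (m ≫ prod.snd) ha ?_ ?_
    · rw [← CategoryTheory.Functor.map_id]
      exact (AlgSp.repWith_yon_map_iff _ _).2 (inferInstanceAs (Etale (𝟙 (Over.mk σ).left)))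
    · rw [Category.comp_id, Functor.map_comp, hm, Category.assoc, ts_snd]
      rfl
  let q : V.left ⟶ Spec (CommRingCat.of k) := (m ≫ prod.snd).left
  haveI : LocallyOfFiniteType q := hmq
  haveI : LocallyOfFiniteType (m.left ≫ (prod.snd : Over.mk σ ⨯ Over.mk σ ⟶ Over.mk σ).left) :=
    hmq
  haveI : LocallyOfFiniteType m.left := locallyOfFiniteType_of_comp m.left
    (prod.snd : Over.mk σ ⨯ Over.mk σ ⟶ Over.mk σ).left
  have hR' : AlgSp.dim G.R = d := by
    rw [← localDim_eq_dim G σ eU hR hs V a ha v]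
    refine le_antisymm ?_ ((hd V a m ha hm.symm v).ge.trans (fibreDimAt_le_localDim m.left v))
    obtain ⟨ξ, -, hξ⟩ := Flat55.DimSums.exists_pdim_eq_localDim q v
    have h0 := VarDim.Fibre.pdim_eq_add q
      (prod.snd : Over.mk σ ⨯ Over.mk σ ⟶ Over.mk σ).left m.left rfl ξ
    have hz : pdim (prod.snd : Over.mk σ ⨯ Over.mk σ ⟶ Over.mk σ).left (m.left ξ) = 0 := by
      show Cardinal.toNat (Cyc.Residue.trdegAt _ (m.left ξ)) = 0
      rw [TwoFields.trdegAt_snd_eq_zero σ m ξ, map_zero]
    rw [hξ, h0, hz, zero_add, ← hd V a m ha hm.symm ξ]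
    exact VarDim.Semicont.tdAt_le_fibreDimAt m.left specializes_rfl rfl
  -- the stabilizer is the base change of `(t, s)` along the diagonal
  let Δ : Over.mk σ ⟶ Over.mk σ ⨯ Over.mk σ := Limits.diag (Over.mk σ)
  let ψ : pullback G.pU G.pU ⟶ (yon S).obj (Over.mk σ ⨯ Over.mk σ) :=
    prod.lift (pullback.fst _ _ ≫ eU.hom) (pullback.snd _ _ ≫ eU.hom) ≫ (yonProdIso _ _).inv
  haveI : Mono ψ := by
    refine ⟨fun α β h => pullback.hom_ext ?_ ?_⟩
    · rw [← cancel_mono eU.hom]
      have h' := congrArg (· ≫ (yon S).map prod.fst) h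
      simp only [Category.assoc α, Category.assoc β, ψ, lift_inv_fst] at h'
      simpa only [Category.assoc] using h'
    · rw [← cancel_mono eU.hom]
      have h' := congrArg (· ≫ (yon S).map prod.snd) h
      simp only [Category.assoc α, Category.assoc β, ψ, lift_inv_snd] at h'
      simpa only [Category.assoc] using h'
  have hj : G.j ≫ ψ = ts G σ eU := by
    simp only [ψ, ts, ← Category.assoc, prod.comp_lift, G.j_fst, G.j_snd]
  have hdiag : G.diag ≫ ψ = eU.hom ≫ (yon S).map Δ := by
    refine yon_prod_ext ?_ ?_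
    · rw [Category.assoc, lift_inv_fst, Category.assoc, ← Functor.map_comp, prod.lift_fst,
        CategoryTheory.Functor.map_id, Category.comp_id, ← Category.assoc,
        GroupoidSp.diag, pullback.lift_fst, Category.id_comp]
    · rw [Category.assoc, lift_inv_snd, Category.assoc, ← Functor.map_comp, prod.lift_snd,
        CategoryTheory.Functor.map_id, Category.comp_id, ← Category.assoc,
        GroupoidSp.diag, pullback.lift_snd, Category.id_comp]
  have sq' : IsPullback (pullback.fst G.j G.diag) (pullback.snd G.j G.diag) (G.j ≫ ψ)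
      (G.diag ≫ ψ) :=
    IsPullback.of_isLimit (PullbackCone.isLimitOfCompMono G.j G.diag ψ _
      (IsPullback.of_hasPullback G.j G.diag).isLimit)
  have sq : IsPullback (pullback.fst G.j G.diag) (pullback.snd G.j G.diag ≫ eU.hom) (ts G σ eU)
      ((yon S).map Δ) := by
    refine IsPullback.of_iso sq' (Iso.refl _) (Iso.refl _) eU (Iso.refl _) ?_ ?_ ?_ ?_
    · simp
    · simp
    · simp [hj]
    · simp [hdiag]
  have hGst : IsAlgSpace G.stabilizer := isAlgSpace_of_isPullback sq hZ.diag hR hK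
  have hsnd : LocP @LocallyOfFiniteType (pullback.snd G.j G.diag ≫ eU.hom) :=
    locP_lft_of_isPullback hR hZ hK sq hlft
  haveI : Nonempty (Points G.stabilizer) := by
    refine ⟨Points.map (pullback.lift G.e (𝟙 G.U) ?_ : G.U ⟶ G.stabilizer) (Points.map eU.inv
      (Points.schemeHomeo (Over.mk σ) (IsLocalRing.closedPoint k)))⟩
    apply pullback.hom_ext
    · simp only [Category.assoc, G.j_fst, G.e_t, GroupoidSp.diag, Category.id_comp]
      exact (pullback.lift_fst _ _ _).symm
    · simp only [Category.assoc, G.j_snd, G.e_s, GroupoidSp.diag, Category.id_comp]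
      exact (pullback.lift_snd _ _ _).symm
  have hid : RepWith @Etale (𝟙 ((yon S).obj (Over.mk σ))) := by
    rw [← CategoryTheory.Functor.map_id]
    exact (AlgSp.repWith_yon_map_iff _ _).2 (inferInstanceAs (Etale (𝟙 (Over.mk σ).left)))
  have hidZ : RepWith @Etale (𝟙 ((yon S).obj (Over.mk σ ⨯ Over.mk σ))) := by
    rw [← CategoryTheory.Functor.map_id]
    exact (AlgSp.repWith_yon_map_iff _ _).2
      (inferInstanceAs (Etale (𝟙 (Over.mk σ ⨯ Over.mk σ).left)))
  rw [hR', dim_eq_of_forall hGst]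
  intro W b hb w
  obtain ⟨h, hh⟩ := (yon S).map_surjective (b ≫ pullback.snd G.j G.diag ≫ eU.hom)
  rw [← FibreDimPts.fibreDimAt_eq_localDim h.left w]
  refine (RelDim.hasAtMor_fibreDim_pred hGst hK hsnd (· = d) hb hid
    ((hh.trans rfl).symm.trans (Category.comp_id _).symm) w).1 ?_
  refine (RelDim.fibreDim_of_isPullback hR hZ hK sq hlft _ (· = d)).2 ?_
  obtain ⟨V₁, W₁, a₁, b₁, h₁, v₁, ha₁, hb₁, w₁, hv₁⟩ :=
    RelDim.exists_chart_at hR hZ (ts G σ eU) (Points.map (pullback.fst G.j G.diag) (Points.ofPt b w))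
  refine (iff_of_eq (congrArg _ hv₁)).1 ?_
  obtain ⟨m₁, hm₁⟩ := (yon S).map_surjective (a₁ ≫ ts G σ eU)
  exact (RelDim.hasAtMor_fibreDim_pred hR hZ hlft (· = d) ha₁ hidZ
    (by rw [Category.comp_id, hm₁]) v₁).2 (hd V₁ a₁ m₁ ha₁ hm₁.symm v₁)

end Groth.Agent.Lib.AlgSpGrpLocus.GpdDim
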